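import Mathlib

/-!
Shintani descent for an automorphism `σ` of an abstract group.
-/

set_option autoImplicit false

namespace CfsgLib.Shintani

variable {X : Type*} [Group X] (σ : MulAut X)

theorem mem_fix {τ : MulAut X} {g : X} :
    g ∈ (MulEquiv.toMonoidHom τ).eqLocus (MonoidHom.id X) ↔ τ g = g := Iff.rfl

theorem pow_succ_apply' (n : ℕ) (a : X) : (σ ^ (n + 1)) a = (σ ^ n) (σ a) := by
  rw [pow_succ]; rfl

theorem comm_apply (n : ℕ) (a : X) : (σ ^ n) (σ a) = σ ((σ ^ n) a) := by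
  rw [← pow_succ_apply', pow_succ']; rfl

/-- The partial norms telescope. -/
theorem prod_eq {g a : X} (ha : g = a * (σ a)⁻¹) (d : ℕ) :
    ((List.range d).map (fun i => (σ ^ i) g)).prod = a * ((σ ^ d) a)⁻¹ := by
  induction d with
  | zero => simp
  | succ d ih =>
    rw [List.range_succ, List.map_append, List.prod_append, ih]
    simp only [List.map_cons, List.map_nil, List.prod_cons, List.prod_nil, mul_one]
    rw [ha, map_mul, map_inv, ← pow_succ_apply']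
    group

variable {σ} {e : ℕ} {g a : X}

theorem image_fixed (hg : (σ ^ e) g = g) (ha : g = a * (σ a)⁻¹) :
    σ (((σ ^ e) a)⁻¹ * a) = ((σ ^ e) a)⁻¹ * a := by
  have hs : σ a = g⁻¹ * a := by rw [ha]; group
  rw [map_mul, map_inv, ← comm_apply, hs, map_mul, map_inv, hg]
  group

theorem fix_pow {h : X} (hh : σ h = h) (n : ℕ) : (σ ^ n) h = h := by
  induction n with
  | zero => rfl
  | succ n ih => rw [pow_succ_apply', hh, ih]

theorem transport_iff {g' b k : X} (hg : (σ ^ e) g = g) (ha : g = a * (σ a)⁻¹)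
    (hb : g' = b * (σ b)⁻¹) :
    ((σ ^ e) k = k ∧ g' = k * g * (σ k)⁻¹) ↔
      (σ (b⁻¹ * k * a) = b⁻¹ * k * a ∧
        ((σ ^ e) b)⁻¹ * b = (b⁻¹ * k * a) * (((σ ^ e) a)⁻¹ * a) * (b⁻¹ * k * a)⁻¹) := by
  have hsa : σ a = g⁻¹ * a := by rw [ha]; group
  have hsb : σ b = g'⁻¹ * b := by rw [hb]; group
  constructor
  · rintro ⟨hk, hkg⟩
    have hσ : σ (b⁻¹ * k * a) = b⁻¹ * k * a := by
      rw [map_mul, map_mul, map_inv, hsa, hsb, hkg]
      group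
    refine ⟨hσ, ?_⟩
    have h1 := fix_pow hσ e
    rw [map_mul, map_mul, map_inv, hk] at h1
    calc ((σ ^ e) b)⁻¹ * b = (((σ ^ e) b)⁻¹ * k * (σ ^ e) a) * ((σ ^ e) a)⁻¹ * k⁻¹ * b := by group
      _ = (b⁻¹ * k * a) * ((σ ^ e) a)⁻¹ * k⁻¹ * b := by rw [h1]
      _ = _ := by group
  · rintro ⟨hσ, hx⟩
    have h1 := fix_pow hσ e
    rw [map_mul, map_mul, map_inv] at h1
    constructor
    · have h2 : b⁻¹ * k * a = ((σ ^ e) b)⁻¹ * (σ ^ e) k * (σ ^ e) a := h1.symm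
      have h3 : (σ ^ e) k = (σ ^ e) b * (b⁻¹ * k * a) * ((σ ^ e) a)⁻¹ := by rw [h2]; group
      have h4 : (σ ^ e) b = b * ((b⁻¹ * k * a) * (((σ ^ e) a)⁻¹ * a) * (b⁻¹ * k * a)⁻¹)⁻¹ := by
        rw [← hx]; group
      rw [h3, h4]
      group
    · rw [map_mul, map_mul, map_inv, hsa, hsb] at hσ
      have h3 : σ k = g'⁻¹ * b * (b⁻¹ * k * a) * (g⁻¹ * a)⁻¹ := by
        rw [← hσ]; group
      rw [h3]
      group

theorem pow_apply_image (hg : (σ ^ e) g = g) (ha : g = a * (σ a)⁻¹) (d : ℕ) :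
    (((σ ^ d) ^ e) a)⁻¹ * a = (((σ ^ e) a)⁻¹ * a) ^ d := by
  have hx := fix_pow (image_fixed hg ha) e
  set x := ((σ ^ e) a)⁻¹ * a with hxdef
  have hk : ∀ k : ℕ, ((σ ^ e) ^ k) a = a * (x ^ k)⁻¹ := by
    intro k
    induction k with
    | zero => simp
    | succ k ih =>
      rw [pow_succ']
      change (σ ^ e) (((σ ^ e) ^ k) a) = _
      rw [ih, map_mul, map_inv, map_pow, hx, pow_succ', show (σ ^ e) a = a * x⁻¹ by
        rw [hxdef]; group]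
      group
  rw [← pow_mul, mul_comm, pow_mul, hk]
  group

theorem card_fixed_cosets (Y : Subgroup X) (hY : ∀ y : X, y ∈ Y ↔ σ y ∈ Y)
    (hYL : ∀ y ∈ Y, ∃ c ∈ Y, y = c * (σ c)⁻¹)
    (hYLe : ∀ y ∈ Y, ∃ c ∈ Y, y = c * ((σ ^ e) c)⁻¹)
    (hg : (σ ^ e) g = g) (ha : g = a * (σ a)⁻¹) :
    Nat.card {k : ↥((MulEquiv.toMonoidHom (σ ^ e)).eqLocus (MonoidHom.id X)) //
        (k : X)⁻¹ * g * σ k ∈ Y} *
        Nat.card ↥(Y ⊓ (MulEquiv.toMonoidHom σ).eqLocus (MonoidHom.id X)) =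
      Nat.card {h : ↥((MulEquiv.toMonoidHom σ).eqLocus (MonoidHom.id X)) //
        (h : X)⁻¹ * (((σ ^ e) a)⁻¹ * a) * h ∈ Y} *
        Nat.card ↥(Y ⊓ (MulEquiv.toMonoidHom (σ ^ e)).eqLocus (MonoidHom.id X)) := by
  classical
  have hYn : ∀ n : ℕ, ∀ y ∈ Y, (σ ^ n) y ∈ Y := by
    intro n
    induction n with
    | zero => exact fun y hy => hy
    | succ n ih => exact fun y hy => by rw [pow_succ_apply']; exact ih _ ((hY y).1 hy)
  have hsa : σ a = g⁻¹ * a := by rw [ha]; group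
  have hea : (σ ^ e) a = a * (((σ ^ e) a)⁻¹ * a)⁻¹ := by group
  let A := {k : ↥((MulEquiv.toMonoidHom (σ ^ e)).eqLocus (MonoidHom.id X)) //
        (k : X)⁻¹ * g * σ k ∈ Y}
  let B := {h : ↥((MulEquiv.toMonoidHom σ).eqLocus (MonoidHom.id X)) //
        (h : X)⁻¹ * (((σ ^ e) a)⁻¹ * a) * h ∈ Y}
  let T := {kc : X × X // (σ ^ e) kc.1 = kc.1 ∧ kc.2 ∈ Y ∧
    σ (a⁻¹ * kc.1 * kc.2) = a⁻¹ * kc.1 * kc.2}
  have hA : ∀ kc : T, kc.1.1⁻¹ * g * σ kc.1.1 ∈ Y := by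
    rintro ⟨⟨k, c⟩, hk, hc, hh⟩
    simp only at hk hc hh ⊢
    rw [map_mul, map_mul, map_inv, hsa] at hh
    have : k⁻¹ * g * σ k = c * (σ c)⁻¹ := by
      have h2 : σ k = g⁻¹ * a * (a⁻¹ * k * c) * (σ c)⁻¹ := by rw [← hh]; group
      rw [h2]; group
    rw [this]
    exact Y.mul_mem hc (Y.inv_mem ((hY c).1 hc))
  have hB : ∀ kc : T, (a⁻¹ * kc.1.1 * kc.1.2)⁻¹ * (((σ ^ e) a)⁻¹ * a) *
      (a⁻¹ * kc.1.1 * kc.1.2) ∈ Y := by
    rintro ⟨⟨k, c⟩, hk, hc, hh⟩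
    simp only at hk hc hh ⊢
    have h1 := fix_pow hh e
    rw [map_mul, map_mul, map_inv, hk] at h1
    have : (a⁻¹ * k * c)⁻¹ * (((σ ^ e) a)⁻¹ * a) * (a⁻¹ * k * c) = ((σ ^ e) c)⁻¹ * c := by
      have h5 : ((σ ^ e) a)⁻¹ = a⁻¹ * k * c * ((σ ^ e) c)⁻¹ * k⁻¹ := by rw [← h1]; group
      rw [h5]
      group
    rw [this]
    exact Y.mul_mem (Y.inv_mem (hYn e c hc)) hc
  have hAc : ∀ k : A, ∃ c ∈ Y, σ (a⁻¹ * (k.1 : X) * c) = a⁻¹ * (k.1 : X) * c := by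
    rintro ⟨⟨k, hk⟩, hy⟩
    obtain ⟨c, hc, hc'⟩ := hYL _ hy
    refine ⟨c, hc, ?_⟩
    simp only at hy hc' ⊢
    have h2 : σ k = g⁻¹ * k * c * (σ c)⁻¹ := by
      rw [mul_assoc (g⁻¹ * k), ← hc']; group
    rw [map_mul, map_mul, map_inv, hsa, h2]
    group
  have hBc : ∀ h : B, ∃ c ∈ Y, (σ ^ e) (a * (h.1 : X) * c⁻¹) = a * (h.1 : X) * c⁻¹ := by
    rintro ⟨⟨h, hh⟩, hy⟩
    obtain ⟨d, hd, hd'⟩ := hYLe _ (Y.inv_mem hy)
    refine ⟨d⁻¹, Y.inv_mem hd, ?_⟩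
    simp only at hy hd' ⊢
    rw [inv_inv, map_mul, map_mul, fix_pow (mem_fix.1 hh) e]
    have h2 : (σ ^ e) d = (h⁻¹ * (((σ ^ e) a)⁻¹ * a) * h) * d := by
      rw [inv_eq_iff_eq_inv.1 hd']; group
    rw [h2]
    group
  choose cA hcA hcA' using hAc
  choose cB hcB hcB' using hBc
  let e1 : T ≃ A × ↥(Y ⊓ (MulEquiv.toMonoidHom σ).eqLocus (MonoidHom.id X)) :=
    { toFun := fun kc =>
        let k : A := ⟨⟨kc.1.1, kc.2.1⟩, hA kc⟩
        (k, ⟨(cA k)⁻¹ * kc.1.2, Y.mul_mem (Y.inv_mem (hcA k)) kc.2.2.1, by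
          change σ ((cA k)⁻¹ * kc.1.2) = (cA k)⁻¹ * kc.1.2
          rw [show (cA k)⁻¹ * kc.1.2 = (a⁻¹ * (k.1 : X) * cA k)⁻¹ * (a⁻¹ * kc.1.1 * kc.1.2) by
            simp only [k]; group, map_mul, map_inv, hcA', kc.2.2.2]⟩)
      invFun := fun p => ⟨((p.1.1 : X), cA p.1 * (p.2 : X)), p.1.1.2,
        Y.mul_mem (hcA _) p.2.2.1, by
          simp only
          rw [← mul_assoc, map_mul, hcA', mem_fix.1 p.2.2.2]⟩
      left_inv := fun kc => Subtype.ext (Prod.ext rfl (by simp))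
      right_inv := fun p => Prod.ext rfl (Subtype.ext (by
        change (cA p.1)⁻¹ * (cA p.1 * (p.2 : X)) = p.2
        group)) }
  let e2 : T ≃ B × ↥(Y ⊓ (MulEquiv.toMonoidHom (σ ^ e)).eqLocus (MonoidHom.id X)) :=
    { toFun := fun kc =>
        let h : B := ⟨⟨a⁻¹ * kc.1.1 * kc.1.2, kc.2.2.2⟩, hB kc⟩
        (h, ⟨cB h * kc.1.2⁻¹, Y.mul_mem (hcB h) (Y.inv_mem kc.2.2.1), by
          change (σ ^ e) (cB h * kc.1.2⁻¹) = cB h * kc.1.2⁻¹
          rw [show cB h * kc.1.2⁻¹ = (a * (h.1 : X) * (cB h)⁻¹)⁻¹ * kc.1.1 by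
            simp only [h]; group, map_mul, map_inv, hcB', kc.2.1]⟩)
      invFun := fun p => ⟨(a * (p.1.1 : X) * (cB p.1)⁻¹ * (p.2 : X), (p.2 : X)⁻¹ * cB p.1), by
          simp only
          rw [map_mul, hcB', mem_fix.1 p.2.2.2],
        Y.mul_mem (Y.inv_mem p.2.2.1) (hcB _), by
          simp only
          rw [show a⁻¹ * (a * (p.1.1 : X) * (cB p.1)⁻¹ * (p.2 : X)) * ((p.2 : X)⁻¹ * cB p.1)
            = (p.1.1 : X) by group]
          exact mem_fix.1 p.1.1.2⟩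
      left_inv := fun kc => Subtype.ext (Prod.ext (by simp; group) (by simp))
      right_inv := fun p => by
        refine Prod.ext (Subtype.ext (Subtype.ext (by simp; group))) (Subtype.ext ?_)
        simp only
        generalize_proofs pf1 pf2
        rw [show (⟨⟨_, pf1⟩, pf2⟩ : B) = p.1 from Subtype.ext (Subtype.ext (by simp; group))]
        simp }
  rw [← Nat.card_prod, ← Nat.card_prod]
  exact Nat.card_congr (e1.symm.trans e2)

end CfsgLib.Shintani
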